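import Groth.Agent.Lib.Hens.Normal
import Groth.Agent.Lib.Hens.Henselization
import Groth.Agent.S2748
import Groth.Agent.S0539
import Mathlib.RingTheory.Etale.Descent
import Mathlib.RingTheory.Finiteness.Descent
import Mathlib.RingTheory.Etale.Pi
import Mathlib.RingTheory.Localization.Integral
import Mathlib.RingTheory.Localization.BaseChange
import Mathlib.RingTheory.Algebraic.Integral

/-!
An étale algebra over the fraction field of a normal local domain which splits over the fraction field of the strict
henselization is the generic fibre of a finite étale algebra.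
-/

set_option autoImplicit false
set_option linter.style.haveILetI false

universe u

open TensorProduct

namespace Groth.Agent.SplitSH25

open Groth.Agent.Hens

variable (A : Type u) [CommRing A] [IsDomain A] [IsLocalRing A] [IsIntegrallyClosed A]
  (R : Type u) [CommRing R] [IsLocalRing R] [Algebra A R] [IsLocalHom (algebraMap A R)]
  [Hensel.IsStrictHenselization A R]

theorem exists_stage₀ (s : Finset R) : ∃ (i : Nbhd A (SeparableClosure (IsLocalRing.ResidueField A)))
    (ψ : i.G →ₐ[A] R), ∀ r ∈ s, ∃ y, ψ y = r := by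
  obtain ⟨e⟩ := exists_strictHenselization_equiv (R := A) (S := R)
  obtain ⟨i, hi⟩ := Hs.exists_of_finset s fun r => e.symm r
  exact ⟨i, e.toAlgHom.comp (Hs.of i), fun r hr => (hi r hr).imp fun y hy =>
    (congrArg e hy).trans (e.apply_symm_apply r)⟩

omit [IsLocalRing A] [IsIntegrallyClosed A] in
theorem isAlgebraic_of_unramified (G : Type u) [CommRing G] [Algebra A G] [Module.Flat A G]
    [Algebra.FormallyUnramified A G] [Algebra.EssFiniteType A G] (g : G) : IsAlgebraic A g := by
  let K := FractionRing A
  haveI : Module.Free K (K ⊗[A] G) := Module.Free.of_divisionRing K _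
  haveI : Module.Finite K (K ⊗[A] G) := Algebra.FormallyUnramified.finite_of_free _ _
  refine (isAlgebraic_algHom_iff (Algebra.TensorProduct.includeRight : G →ₐ[A] K ⊗[A] G)
    (Algebra.TensorProduct.includeRight_injective (IsFractionRing.injective A K))).1 ?_
  exact (IsFractionRing.isAlgebraic_iff A K _).2 (IsIntegral.of_finite K _).isAlgebraic

include R in
/-- Finitely many elements of the strict henselization come from a stage. -/
theorem exists_stage [IsDomain R] (hinj : Function.Injective (algebraMap A R)) (B : Type u) [CommRing B] [Algebra A B]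
    (s : Finset R) :
    ∃ (G : Type u) (_ : CommRing G) (_ : Algebra A G) (ψ : G →ₐ[A] R), Function.Injective ψ ∧
      (∀ g : G, IsAlgebraic A g) ∧ (∀ r ∈ s, ∃ y, ψ y = r) ∧
      Function.Bijective (TensorProduct.toIntegralClosure A G B) := by
  obtain ⟨i, ψ, hψ⟩ := exists_stage₀ A R s
  haveI : Module.Flat A i.G := Module.Flat.trans A i.S i.G
  haveI : Algebra.FormallyUnramified i.S i.G := Algebra.FormallyUnramified.of_isLocalization i.q.primeCompl
  haveI : Algebra.FormallyUnramified A i.G := Algebra.FormallyUnramified.comp A i.S i.G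
  haveI : Algebra.EssFiniteType i.S i.G := Algebra.EssFiniteType.of_isLocalization i.G i.q.primeCompl
  haveI : Algebra.EssFiniteType A i.G := Algebra.EssFiniteType.comp A i.S i.G
  haveI := (Nbhd.isDomain_isIntegrallyClosed i).1
  have halg : ∀ g : i.G, IsAlgebraic A g := fun g => isAlgebraic_of_unramified A i.G g
  refine ⟨i.G, inferInstance, inferInstance, ψ, ?_, halg, hψ,
    TensorProduct.toIntegralClosure_bijective_of_tower (S := i.S)
      TensorProduct.toIntegralClosure_bijective_of_smooth
      (TensorProduct.toIntegralClosure_bijective_of_isLocalization i.q.primeCompl)⟩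
  rw [injective_iff_map_eq_zero]
  intro g hg
  by_contra hg0
  obtain ⟨a, ha, c, hc⟩ := (halg g).exists_nonzero_dvd (mem_nonZeroDivisors_of_ne_zero hg0)
  have h1 := congrArg ψ hc
  rw [AlgHom.commutes, map_mul, hg, zero_mul] at h1
  exact ha (hinj (h1.trans (map_zero _).symm))

variable (K L : Type u) [Field K] [Field L] [Algebra A K] [IsFractionRing A K] [Algebra R L] [IsFractionRing R L]
  [Algebra K L] [Algebra A L] [IsScalarTower A K L] [IsScalarTower A R L]

include K L in
omit [IsLocalRing A] [IsIntegrallyClosed A] [IsLocalRing R] [IsLocalHom (algebraMap A R)]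
  [Hensel.IsStrictHenselization A R] [IsFractionRing R L] in
theorem injective_algebraMap : Function.Injective (algebraMap A R) := fun a b h => by
  refine IsFractionRing.injective A K ((algebraMap K L).injective ?_)
  rw [← IsScalarTower.algebraMap_apply, ← IsScalarTower.algebraMap_apply, IsScalarTower.algebraMap_apply A R L,
    IsScalarTower.algebraMap_apply A R L, h]

include K L in
theorem isPushout : Algebra.IsPushout A R K L := by
  haveI := ((Groth.Agent.S2748.result A R).2 ⟨inferInstance, inferInstance⟩).1
  have hinj := injective_algebraMap A R K L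
  have : IsLocalization (Algebra.algebraMapSubmonoid R (nonZeroDivisors A)) L := by
    refine (IsLocalization.iff_of_le_of_exists_dvd _ (nonZeroDivisors R) ?_ ?_).2 inferInstance
    · rintro _ ⟨a, ha, rfl⟩
      exact mem_nonZeroDivisors_of_ne_zero fun h =>
        nonZeroDivisors.ne_zero ha (hinj (h.trans (map_zero _).symm))
    · intro r hr
      obtain ⟨G, _, _, ψ, -, halg, hψ, -⟩ := exists_stage A R hinj A {r}
      obtain ⟨g, rfl⟩ := hψ r (Finset.mem_singleton_self _)
      obtain ⟨a, ha, hdvd⟩ := ((halg g).algHom ψ).exists_nonzero_dvd hr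
      exact ⟨algebraMap A R a, ⟨a, mem_nonZeroDivisors_of_ne_zero ha, rfl⟩, hdvd⟩
  exact Algebra.isPushout_of_isLocalization (nonZeroDivisors A) K R L

variable (B : Type u) [CommRing B] [Algebra K B] [Algebra A B] [IsScalarTower A K B] [Module.Finite K B]

include R in
set_option maxHeartbeats 1600000 in
theorem exists_model {ι : Type u} [Finite ι] (φ : L ⊗[K] B ≃ₐ[L] (ι → L)) :
    ∃ (A' : Type u) (_ : CommRing A') (_ : Algebra A A'),
      Module.Finite A A' ∧ Algebra.Etale A A' ∧ Nonempty (K ⊗[A] A' ≃ₐ[K] K ⊗[K] B) := by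
  classical
  obtain ⟨_, _⟩ := (Groth.Agent.S2748.result A R).2 ⟨inferInstance, inferInstance⟩
  haveI : Module.FaithfullyFlat A R := Groth.Agent.S0539.result A R
  have hinj := injective_algebraMap A R K L
  haveI := isPushout A R K L
  haveI : Module.Flat A K := IsLocalization.flat K (nonZeroDivisors A)
  haveI : Module.Flat A B := Module.Flat.trans A K B
  let A' := integralClosure A B
  let θ : R ⊗[A] B ≃ₐ[R] (ι → L) :=
    (Algebra.IsPushout.cancelBaseChangeAlg A R K L B).symm.trans (φ.restrictScalars R)
  let j : R ⊗[A] A' →ₐ[R] R ⊗[A] B := Algebra.TensorProduct.map (AlgHom.id R R) A'.val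
  have hj : Function.Injective j :=
    Module.Flat.lTensor_preserves_injective_linearMap (M := R) A'.val.toLinearMap Subtype.val_injective
  have hidem : ∀ x : R ⊗[A] B, x * x = x → ∃ z, j z = x := by
    intro x hx
    obtain ⟨S, hS⟩ := TensorProduct.exists_finset x
    obtain ⟨G, _, _, ψ, hψinj, -, hψ, hbij⟩ := exists_stage A R hinj B (S.image Prod.fst)
    have hψ' : ∀ p : R × B, ∃ y : G, p ∈ S → ψ y = p.1 := fun p => by
      by_cases hp : p ∈ S
      · obtain ⟨y, hy⟩ := hψ p.1 (Finset.mem_image_of_mem _ hp)
        exact ⟨y, fun _ => hy⟩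
      · exact ⟨0, fun h => absurd h hp⟩
    choose y hy using hψ'
    let xG : G ⊗[A] B := ∑ p ∈ S, y p ⊗ₜ p.2
    let ψB : G ⊗[A] B →ₐ[A] R ⊗[A] B := Algebra.TensorProduct.map ψ (AlgHom.id A B)
    have hψB : Function.Injective ψB :=
      Module.Flat.rTensor_preserves_injective_linearMap (M := B) ψ.toLinearMap hψinj
    have hxG : ψB xG = x := by
      rw [hS, map_sum]
      exact Finset.sum_congr rfl fun p hp => by simp [ψB, hy p hp]
    have hint : IsIntegral G xG := ⟨Polynomial.X ^ 2 - Polynomial.X, Polynomial.monic_X_pow_sub (Polynomial.degree_X_le.trans_lt (by norm_num)), by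
      rw [Polynomial.eval₂_sub, Polynomial.eval₂_pow, Polynomial.eval₂_X, sq,
        hψB ((map_mul ψB xG xG).trans (by rw [hxG, hx])), sub_self]⟩
    obtain ⟨w, hw⟩ := hbij.2 ⟨xG, hint⟩
    have hw' : Algebra.TensorProduct.map (AlgHom.id G G) A'.val w = xG := congrArg Subtype.val hw
    refine ⟨Algebra.TensorProduct.map ψ (AlgHom.id A A') w, ?_⟩
    rw [← hxG, ← hw']
    clear hw hw' hxG hint
    induction w with
    | zero => simp
    | add u v hu hv => simp only [map_add, hu, hv]
    | tmul g y => simp [j, ψB]
  let ρ : (ι → R) →ₐ[R] (ι → L) := Pi.algHom R _ fun i => (Algebra.ofId R L).comp (Pi.evalAlgHom R (fun _ : ι => R) i)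
  have hρ : ∀ f i, ρ f i = algebraMap R L (f i) := fun _ _ => rfl
  have hρinj : Function.Injective ρ := fun f g h => funext fun i =>
    IsFractionRing.injective R L (congrFun h i)
  let χ : R ⊗[A] A' →ₐ[R] (ι → L) := θ.toAlgHom.comp j
  have hrange : χ.range = ρ.range := by
    apply le_antisymm
    · rintro _ ⟨z, rfl⟩
      have hz : IsIntegral R (χ z) := by
        have h1 : IsIntegral R (j z) := (TensorProduct.toIntegralClosure A R B z).2
        exact h1.map θ.toAlgHom
      have hc : ∀ i, ∃ r : R, algebraMap R L r = χ z i := fun i =>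
        IsIntegrallyClosed.isIntegral_iff.mp (hz.map (Pi.evalAlgHom R (fun _ : ι => L) i))
      choose f hf using hc
      exact ⟨f, funext fun i => (hρ f i).trans (hf i)⟩
    · rintro _ ⟨f, rfl⟩
      haveI := Fintype.ofFinite ι
      have hsum : ρ f = ∑ i, f i • (Pi.single i (1 : L) : ι → L) := funext fun k => by
        rw [hρ, Finset.sum_apply, Finset.sum_eq_single k (fun b _ hb => by simp [Pi.single_eq_of_ne hb.symm])
          (fun h => absurd (Finset.mem_univ k) h)]
        simp [Algebra.smul_def]
      show ρ f ∈ χ.range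
      rw [hsum]
      refine Subalgebra.sum_mem _ fun i _ => Subalgebra.smul_mem _ ?_ _
      obtain ⟨z, hz⟩ := hidem (θ.symm (Pi.single i 1)) (by rw [← map_mul, ← Pi.single_mul, one_mul])
      exact ⟨z, (congrArg θ hz).trans (θ.apply_symm_apply _)⟩
  have hχ : Function.Injective χ := θ.injective.comp hj
  let E : R ⊗[A] A' ≃ₐ[R] (ι → R) := (AlgEquiv.ofInjective χ hχ).trans
    ((Subalgebra.equivOfEq _ _ hrange).trans (AlgEquiv.ofInjective ρ hρinj).symm)
  haveI : Module.Finite R (R ⊗[A] A') := Module.Finite.equiv E.symm.toLinearEquiv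
  haveI : Algebra.Etale R (R ⊗[A] A') := Algebra.Etale.of_equiv E.symm
  refine ⟨A', inferInstance, inferInstance, Module.Finite.of_finite_tensorProduct_of_faithfullyFlat R,
    Algebra.Etale.of_etale_tensorProduct_of_faithfullyFlat R, ⟨?_⟩⟩
  let κ : K ⊗[A] A' →ₐ[K] B := Algebra.TensorProduct.lift (Algebra.ofId K B) A'.val fun _ _ => Commute.all _ _
  have hκt : ∀ k a, κ (k ⊗ₜ a) = algebraMap K B k * (a : B) := fun k a => Algebra.TensorProduct.lift_tmul _ _ _ k a
  have hclear : ∀ w : K ⊗[A] A', ∃ m : nonZeroDivisors A, ∃ a : A',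
      algebraMap A K m • w = (1 : K) ⊗ₜ[A] a := by
    intro w
    induction w with
    | zero => exact ⟨1, 0, by simp⟩
    | tmul k a =>
      obtain ⟨c, m, hcm⟩ := IsLocalization.exists_mk'_eq (nonZeroDivisors A) k
      refine ⟨m, c • a, ?_⟩
      rw [TensorProduct.smul_tmul', smul_eq_mul, ← hcm, IsLocalization.mk'_spec', Algebra.algebraMap_eq_smul_one,
        TensorProduct.smul_tmul]
    | add u v hu hv =>
      obtain ⟨m, a, hm⟩ := hu
      obtain ⟨m', a', hm'⟩ := hv
      refine ⟨m * m', (m' : A) • a + (m : A) • a', ?_⟩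
      rw [smul_add, Submonoid.coe_mul, map_mul, TensorProduct.tmul_add, mul_comm, mul_smul, hm,
        mul_comm, mul_smul, hm', TensorProduct.tmul_smul, TensorProduct.tmul_smul, algebraMap_smul, algebraMap_smul]
  have hκ : Function.Bijective κ := by
    refine ⟨(injective_iff_map_eq_zero _).2 fun w hw => ?_, fun b => ?_⟩
    · obtain ⟨m, a, hm⟩ := hclear w
      have h1 := congrArg κ hm
      rw [map_smul, hw, smul_zero, hκt, map_one, one_mul] at h1
      have hu : IsUnit (algebraMap A K (m : A)) := IsLocalization.map_units K m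
      rw [show a = 0 from Subtype.ext h1.symm, TensorProduct.tmul_zero] at hm
      exact hu.smul_eq_zero.1 hm
    · obtain ⟨m, hm⟩ := IsIntegral.exists_multiple_integral_of_isLocalization (nonZeroDivisors A) b
        (IsIntegral.of_finite K b)
      refine ⟨(algebraMap A K (m : A))⁻¹ ⊗ₜ ⟨m • b, hm⟩, ?_⟩
      rw [hκt]
      show _ * ((m : A) • b) = b
      rw [Algebra.smul_def, IsScalarTower.algebraMap_apply A K B, ← mul_assoc, ← map_mul, inv_mul_cancel₀
        (IsLocalization.map_units K m).ne_zero, map_one, one_mul]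
  exact (AlgEquiv.ofBijective κ hκ).trans (Algebra.TensorProduct.lid K B).symm

end Groth.Agent.SplitSH25
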