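import Groth.Agent.Lib.SplitSH25.Algebra
import Groth.Agent.Lib.RootExt25.Point
import Groth.Prelude.Def_Pi1

/-!
Finite étale schemes over the fraction field which split over the strict henselization extend.
-/

set_option autoImplicit false
set_option linter.style.haveILetI false
set_option backward.isDefEq.respectTransparency false

universe u

open CategoryTheory CategoryTheory.Limits AlgebraicGeometry
open scoped TensorProduct

noncomputable section

namespace Groth.Agent.SplitSH25

/-- A split cover of the spectrum of a field is the spectrum of a product of copies of it. -/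
theorem exists_algEquiv_of_isSplit {L : Type u} [Field L] {C : Type u} [CommRing C] [Algebra L C]
    (Y : FEt.Cat (Spec (CommRingCat.of L))) (e : Y.left ≅ Spec (CommRingCat.of C))
    (he : e.hom ≫ Spec.map (CommRingCat.ofHom (algebraMap L C)) = Y.hom) (h : Pi1.IsSplit Y) :
    ∃ (ι : Type u) (_ : Finite ι), Nonempty (C ≃ₐ[L] (ι → L)) := by
  obtain ⟨ι, hι, s, hs⟩ := h
  refine ⟨ι, hι, ?_⟩
  let P := fun _ : ι => CommRingCat.of L
  let φ : Spec (CommRingCat.of (ι → L)) ≅ Spec (CommRingCat.of C) :=
    (asIso (sigmaSpec P)).symm ≪≫ s.symm ≪≫ e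
  have hφ : φ.hom ≫ Spec.map (CommRingCat.ofHom (algebraMap L C)) =
      Spec.map (CommRingCat.ofHom (algebraMap L (ι → L))) := by
    show ((inv (sigmaSpec P) ≫ s.inv ≫ e.hom) ≫ _) = _
    rw [Category.assoc, Category.assoc, he, IsIso.inv_comp_eq]
    refine Sigma.hom_ext _ _ fun i => ?_
    rw [ι_sigmaSpec_assoc, ← Spec.map_comp]
    exact (hs i).trans (Spec.map_id _).symm
  let g : CommRingCat.of C ≅ CommRingCat.of (ι → L) :=
    { hom := Spec.preimage φ.hom
      inv := Spec.preimage φ.inv
      hom_inv_id := Spec.map_injective (by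
        rw [Spec.map_comp, Spec.map_preimage, Spec.map_preimage, Spec.map_id, Iso.inv_hom_id])
      inv_hom_id := Spec.map_injective (by
        rw [Spec.map_comp, Spec.map_preimage, Spec.map_preimage, Spec.map_id, Iso.hom_inv_id]) }
  have hg : CommRingCat.ofHom (algebraMap L C) ≫ g.hom = CommRingCat.ofHom (algebraMap L (ι → L)) :=
    Spec.map_injective (by rw [Spec.map_comp, Spec.map_preimage]; exact hφ)
  exact ⟨AlgEquiv.ofRingEquiv (f := g.commRingCatIsoToRingEquiv) fun x => congrArg (fun z => z.hom x) hg⟩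

/-- Descent of a cover of the fraction field split over the strict henselization. -/
theorem exists_extension (A : Type u) [CommRing A] [IsDomain A]
    [IsLocalRing A] [IsIntegrallyClosed A] (R : Type u) [CommRing R] [IsLocalRing R] [Algebra A R]
    [IsLocalHom (algebraMap A R)] [Hensel.IsStrictHenselization A R]
    (K L : Type u) [Field K] [Field L] [Algebra A K] [IsFractionRing A K] [Algebra R L] [IsFractionRing R L]
    [Algebra K L] [Algebra A L] [IsScalarTower A K L] [IsScalarTower A R L]
    (V : FEt.Cat (Spec (CommRingCat.of K)))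
    (hV : Pi1.IsSplit ((FEt.restrict (Spec.map (CommRingCat.ofHom (algebraMap K L)))).obj V)) :
    ∃ Y : FEt.Cat (Spec (CommRingCat.of A)),
      Nonempty ((FEt.restrict (Spec.map (CommRingCat.ofHom (algebraMap A K)))).obj Y ≅ V) := by
  let v : V.left ⟶ Spec (CommRingCat.of K) := V.hom
  haveI : IsFinite v := V.prop.1
  haveI : IsAffine V.left := isAffine_of_isAffineHom v
  let B : Type u := Γ(V.left, ⊤)
  let ψ : CommRingCat.of K ⟶ CommRingCat.of B := Spec.preimage (V.left.isoSpec.inv ≫ v)
  have hψ : Spec.map ψ = V.left.isoSpec.inv ≫ v := Spec.map_preimage _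
  letI : Algebra K B := ψ.hom.toAlgebra
  letI : Algebra A B := (ψ.hom.comp (algebraMap A K)).toAlgebra
  haveI : IsScalarTower A K B := IsScalarTower.of_algebraMap_eq fun _ => rfl
  haveI : IsFinite (Spec.map ψ) := by rw [hψ]; infer_instance
  haveI : Module.Finite K B := (IsFinite.SpecMap_iff ψ).1 inferInstance
  let eV : V.left ≅ Spec (CommRingCat.of B) := V.left.isoSpec
  have heV : eV.hom ≫ Spec.map (CommRingCat.ofHom (algebraMap K B)) = V.hom := by
    show V.left.isoSpec.hom ≫ Spec.map ψ = _
    rw [hψ, Iso.hom_inv_id_assoc]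
  let sL := Spec.map (CommRingCat.ofHom (algebraMap K L))
  let dB := Spec.map (CommRingCat.ofHom (algebraMap K B))
  let i1 : pullback v sL ≅ pullback sL dB :=
    asIso (pullback.map v sL dB sL eV.hom (𝟙 _) (𝟙 _) (by simp [v, dB, heV]) (by simp)) ≪≫ pullbackSymmetry _ _
  have hi1 : i1.hom ≫ pullback.fst sL dB = pullback.snd v sL := by simp [i1]
  obtain ⟨ι, _, ⟨φ⟩⟩ := exists_algEquiv_of_isSplit (C := L ⊗[K] B)
    ((FEt.restrict sL).obj V) (i1 ≪≫ pullbackSpecIso K L B) (by
      show (i1.hom ≫ (pullbackSpecIso K L B).hom) ≫ _ = pullback.snd v sL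
      rw [Category.assoc, pullbackSpecIso_hom_fst', hi1]) hV
  obtain ⟨A', _, _, hf, he, ⟨ε⟩⟩ := exists_model A R K L B φ
  let C₀ : FEt.Cat (Spec (CommRingCat.of A)) :=
    MorphismProperty.Over.mk ⊤ (Spec.map (CommRingCat.ofHom (algebraMap A A')))
      ⟨(IsFinite.SpecMap_iff _).2 (RingHom.finite_algebraMap.2 hf),
        (HasRingHomProperty.Spec_iff (P := @Etale)).2 (RingHom.etale_algebraMap.2 he)⟩
  obtain ⟨i⟩ := RootExt25.nonempty_iso_of_algEquiv ε C₀ (Iso.refl _) (Category.id_comp _) V eV heV
  have hid : Spec.map (CommRingCat.ofHom (algebraMap K K)) = 𝟙 _ := Spec.map_id _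
  haveI : IsIso (Spec.map (CommRingCat.ofHom (algebraMap K K))) := by rw [hid]; infer_instance
  refine ⟨C₀, ⟨i ≪≫ MorphismProperty.Over.isoMk (asIso (pullback.fst v _)) ?_⟩⟩
  show pullback.fst v _ ≫ v = pullback.snd v _
  rw [pullback.condition, hid, Category.comp_id]

end Groth.Agent.SplitSH25
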